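import Mathlib.CategoryTheory.Monoidal.Cartesian.Grp

/-!
A subobject closed under the operations is a subgroup object.
-/

set_option autoImplicit false

universe v w

open CategoryTheory MonoidalCategory CartesianMonoidalCategory MonObj GrpObj

namespace Groth.Agent.H21Cent

variable {C : Type w} [Category.{v} C] [CartesianMonoidalCategory C] {U G : C} [GrpObj G]

/-- A subobject closed under unit, product and inverse of points carries a group structure. -/
theorem exists_grpObj_of_mono (j : U ⟶ G) [Mono j]
    (h1 : ∃ e : 𝟙_ C ⟶ U, e ≫ j = 1)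
    (hm : ∃ m : U ⊗ U ⟶ U, m ≫ j = (fst U U ≫ j) * (snd U U ≫ j))
    (hi : ∃ i : U ⟶ U, i ≫ j = j⁻¹) :
    ∃ _ : GrpObj U, IsMonHom j := by
  obtain ⟨e, he⟩ := h1
  obtain ⟨m, hm⟩ := hm
  obtain ⟨i, hi⟩ := hi
  let inst : GrpObj U :=
    { one := e
      mul := m
      one_mul := by
        rw [← cancel_mono j, Category.assoc, hm, MonObj.comp_mul, ← Category.assoc, ← Category.assoc,
          whiskerRight_fst, whiskerRight_snd, Category.assoc, he, MonObj.comp_one, _root_.one_mul]
        exact congrArg (· ≫ j) (leftUnitor_hom U).symm
      mul_one := by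
        rw [← cancel_mono j, Category.assoc, hm, MonObj.comp_mul, ← Category.assoc, ← Category.assoc,
          whiskerLeft_fst, whiskerLeft_snd, Category.assoc (snd _ _), he, MonObj.comp_one, _root_.mul_one]
        exact congrArg (· ≫ j) (rightUnitor_hom U).symm
      mul_assoc := by
        rw [← cancel_mono j]
        simp only [Category.assoc, hm, MonObj.comp_mul, whiskerRight_fst_assoc, whiskerRight_snd_assoc,
          whiskerLeft_fst_assoc, whiskerLeft_snd_assoc, associator_hom_fst_assoc, associator_hom_snd_fst_assoc,
          associator_hom_snd_snd_assoc, _root_.mul_assoc]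
      inv := i
      left_inv := by
        rw [← cancel_mono j]
        simp only [Category.assoc, hm, MonObj.comp_mul, lift_fst_assoc, lift_snd_assoc, hi, Category.id_comp,
          inv_mul_cancel, he, MonObj.comp_one]
      right_inv := by
        rw [← cancel_mono j]
        simp only [Category.assoc, hm, MonObj.comp_mul, lift_fst_assoc, lift_snd_assoc, hi, Category.id_comp,
          mul_inv_cancel, he, MonObj.comp_one] }
  refine ⟨inst, ⟨?_, ?_⟩⟩
  · change e ≫ j = _
    rw [he, Hom.one_def]
    simp
  · change m ≫ j = _
    rw [hm, Hom.mul_def]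
    congr 1
    ext <;> simp

end Groth.Agent.H21Cent
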