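import Groth.Agent.H21Cent.SubMove
import Groth.Agent.H21Cent.SubObj
import Groth.Agent.H15Magnet.AffineRep
import Groth.Agent.H13Desc.Immersion

/-!
Effective descent of a subgroup of multiplicative type whose points move between points of the cover.
-/

set_option autoImplicit false
set_option linter.style.haveILetI false
set_option backward.isDefEq.respectTransparency false
set_option maxHeartbeats 800000
set_option synthInstance.maxHeartbeats 200000

universe u

open CategoryTheory MonoidalCategory CartesianMonoidalCategory MonObj GrpObj AlgebraicGeometry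
open CategoryTheory.Limits Opposite
open Groth.Agent.H21Desc

namespace Groth.Agent.H21Cent

variable {S S' : Scheme.{u}}

/-- Morphisms to a scheme descend along a base change of the covering. -/
theorem existsUnique_desc (π : S' ⟶ S) (hπ : Presieve.singleton π ∈ Scheme.fpqcPrecoverage S)
    {A X : Scheme.{u}} (a : A ⟶ S) (g : pullback π a ⟶ X)
    (hg : ∀ (T : Scheme.{u}) (w₀ w₁ : T ⟶ pullback π a),
      w₀ ≫ pullback.snd π a = w₁ ≫ pullback.snd π a → w₀ ≫ g = w₁ ≫ g) :
    ∃! f : A ⟶ X, pullback.snd π a ≫ f = g := by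
  have hsh := GrothendieckTopology.Subcanonical.isSheaf_of_isRepresentable (J := Scheme.fpqcTopology) (yoneda.obj X)
  have hshf : (Presieve.singleton (pullback.snd π a)).IsSheafFor (yoneda.obj X) := by
    rw [Presieve.isSheafFor_iff_generate]
    refine hsh _ (GrothendieckTopology.superset_covering _ ?_
      (Scheme.fpqcTopology.pullback_stable a (Precoverage.generate_mem_toGrothendieck hπ)))
    rintro Z f ⟨W, k, _, ⟨⟩, hk⟩
    exact ⟨pullback π a, pullback.lift k f hk, _, ⟨⟩, pullback.lift_snd _ _ _⟩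
  rw [Presieve.isSheafFor_singleton] at hshf
  exact hshf g fun {Z} p₁ p₂ h => hg _ p₁ p₂ h

/-- A lift along a monomorphism exists if it exists over the cover. -/
theorem exists_lift_desc (π : S' ⟶ S) (hπ : Presieve.singleton π ∈ Scheme.fpqcPrecoverage S)
    {A U X : Scheme.{u}} (a : A ⟶ S) (j : U ⟶ X) [Mono j] (g : A ⟶ X) (b : pullback π a ⟶ U)
    (hb : b ≫ j = pullback.snd π a ≫ g) : ∃ c : A ⟶ U, c ≫ j = g := by
  obtain ⟨c, hc, -⟩ := existsUnique_desc π hπ a b fun T w₀ w₁ h => by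
    rw [← cancel_mono j, Category.assoc, Category.assoc, hb, ← Category.assoc, h, Category.assoc]
  refine ⟨c, (existsUnique_desc π hπ a (pullback.snd π a ≫ g) fun T w₀ w₁ h => by
    rw [← Category.assoc, h, Category.assoc]).unique ?_ rfl⟩
  rw [← Category.assoc, hc, hb]

/-- A base change of a covering is a covering on affine opens. -/
theorem cover_snd {T : Scheme.{u}} (g : S' ⟶ S) [Flat g] [Surjective g] (h : T ⟶ S)
    (hqc : ∀ V : S.Opens, IsAffineOpen V → ∃ W : S'.Opens, IsCompact (W : Set S') ∧ g.base '' (W : Set S') = (V : Set S))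
    (V : T.Opens) (hV : IsAffineOpen V) :
    ∃ W : (pullback g h).Opens, IsCompact (W : Set ↥(pullback g h)) ∧
      (pullback.snd g h).base '' (W : Set ↥(pullback g h)) = (V : Set T) := by
  have key : ∀ t : (V : Set T), ∃ W : T.Opens, (t : T) ∈ W ∧ IsAffineOpen W ∧ W ≤ V ∧
      ∃ Q : (pullback g h).Opens, IsCompact (Q : Set ↥(pullback g h)) ∧
        (pullback.snd g h).base '' (Q : Set ↥(pullback g h)) = (W : Set T) := by
    rintro ⟨t, ht⟩
    obtain ⟨Vs, hVs, htVs, -⟩ := exists_isAffineOpen_mem_and_subset (U := ⊤) (x := h.base t) (Set.mem_univ _)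
    obtain ⟨W, hW, htW, hWsub⟩ := exists_isAffineOpen_mem_and_subset (U := V ⊓ h ⁻¹ᵁ Vs) (x := t) ⟨ht, htVs⟩
    obtain ⟨P, hPc, hP⟩ := hqc Vs hVs
    have hle : W ≤ h ⁻¹ᵁ Vs := fun w hw => (hWsub hw).2
    have hlP : P ≤ g ⁻¹ᵁ Vs := fun w hw => by
      change g.base w ∈ (Vs : Set S)
      rw [← hP]; exact ⟨w, hw, rfl⟩
    have : CompactSpace P := isCompact_iff_compactSpace.mp hPc
    have : IsAffine W := hW
    have : IsAffine Vs := hVs
    have hqcP : QuasiCompact (g.resLE Vs P hlP) := inferInstance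
    have hqcPt : CompactSpace ↥(pullback (g.resLE Vs P hlP) (h.resLE Vs W hle)) :=
      QuasiCompact.compactSpace_of_compactSpace (pullback.snd (g.resLE Vs P hlP) (h.resLE Vs W hle))
    let ε := pullback.map (g.resLE Vs P hlP) (h.resLE Vs W hle) g h P.ι W.ι Vs.ι
      (Scheme.Hom.resLE_comp_ι _ _) (Scheme.Hom.resLE_comp_ι _ _)
    refine ⟨W, htW, hW, fun w hw => (hWsub hw).1, ε.opensRange, ?_, ?_⟩
    · rw [Scheme.Hom.coe_opensRange]
      exact isCompact_range ε.base.hom.continuous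
    · rw [Scheme.Hom.coe_opensRange]
      refine subset_antisymm ?_ fun w hw => ?_
      · rintro _ ⟨_, ⟨q, rfl⟩, rfl⟩
        rw [← Scheme.Hom.comp_apply, show ε ≫ pullback.snd g h = pullback.snd _ _ ≫ W.ι from
          pullback.lift_snd _ _ _, Scheme.Hom.comp_apply]
        exact Subtype.property _
      · have hsj : Surjective (g.resLE Vs P hlP) := ⟨fun v => by
          obtain ⟨p, hp, hpv⟩ : Vs.ι.base v ∈ g.base '' (P : Set S') := by rw [hP]; exact Subtype.property v
          refine ⟨⟨p, hp⟩, Vs.ι.isOpenEmbedding.injective ?_⟩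
          exact (congrArg (fun z : (P : Scheme.{u}) ⟶ S => z.base ⟨p, hp⟩)
            (Scheme.Hom.resLE_comp_ι g hlP)).trans hpv⟩
        obtain ⟨q, hq⟩ := (inferInstance : Surjective (pullback.snd (g.resLE Vs P hlP) (h.resLE Vs W hle))).surj ⟨w, hw⟩
        refine ⟨_, ⟨q, rfl⟩, ?_⟩
        rw [← Scheme.Hom.comp_apply, show ε ≫ pullback.snd g h = pullback.snd _ _ ≫ W.ι from
          pullback.lift_snd _ _ _, Scheme.Hom.comp_apply, hq]
        rfl
  choose W htW hW hWV Q hQc hQ using key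
  obtain ⟨F, hF⟩ := hV.isCompact.elim_finite_subcover (fun t => (W t : Set T)) (fun t => (W t).isOpen)
    (fun t ht => Set.mem_iUnion.mpr ⟨⟨t, ht⟩, htW ⟨t, ht⟩⟩)
  refine ⟨⨆ t ∈ F, Q t, ?_, ?_⟩
  · simp only [TopologicalSpace.Opens.coe_iSup]
    exact F.isCompact_biUnion fun t _ => hQc t
  · simp only [TopologicalSpace.Opens.coe_iSup, Set.image_iUnion, hQ]
    exact subset_antisymm (Set.iUnion₂_subset fun t _ => hWV t) hF

theorem cover_fst {T : Scheme.{u}} (g : S' ⟶ S) [Flat g] [Surjective g] (h : T ⟶ S)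
    (hqc : ∀ V : S.Opens, IsAffineOpen V → ∃ W : S'.Opens, IsCompact (W : Set S') ∧ g.base '' (W : Set S') = (V : Set S))
    (V : T.Opens) (hV : IsAffineOpen V) :
    ∃ W : (pullback h g).Opens, IsCompact (W : Set ↥(pullback h g)) ∧
      (pullback.fst h g).base '' (W : Set ↥(pullback h g)) = (V : Set T) := by
  obtain ⟨W, hW, e⟩ := cover_snd g h hqc V hV
  let k := (pullbackSymmetry g h).hom
  refine ⟨k.opensFunctor.obj W, hW.image k.continuous, ?_⟩
  rw [← e]
  refine (Set.image_image _ _ _).trans (Set.image_congr' fun z => ?_)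
  exact congrArg (fun m : pullback g h ⟶ T => m.base z) (pullbackSymmetry_hom_comp_fst g h)

variable {π : S' ⟶ S} {G : Over S} [GrpObj G] {H' : Over S'} (j' : H' ⟶ Red.bc π G)

variable (π) in
/-- the gluing bijections -/
noncomputable def moveDD [Mono j'.left]
    (hmove : ∀ (T : Scheme.{u}) (x₀ x₁ : T ⟶ S') (_ : x₀ ≫ π = x₁ ≫ π) (v : Desc.Lifts H' x₀),
      ∃ v' : Desc.Lifts H' x₁, v'.1 ≫ j'.left ≫ pullback.fst G.hom π = v.1 ≫ j'.left ≫ pullback.fst G.hom π) :
    Desc.SchDD π where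
  obj := H'
  φ T x₀ x₁ h :=
    { toFun := fun v => (hmove T x₀ x₁ h v).choose
      invFun := fun v => (hmove T x₁ x₀ h.symm v).choose
      left_inv := fun v => move_unique j' _ _
        ((hmove T x₁ x₀ h.symm _).choose_spec.trans (hmove T x₀ x₁ h v).choose_spec)
      right_inv := fun v => move_unique j' _ _
        ((hmove T x₀ x₁ h _).choose_spec.trans (hmove T x₁ x₀ h.symm v).choose_spec) }
  φ_natural T T' g x₀ x₁ h h' v v' hv' := by
    let z : Desc.Lifts H' (g ≫ x₁) := ⟨g ≫ (hmove T x₀ x₁ h v).choose.1,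
      by rw [Category.assoc, (hmove T x₀ x₁ h v).choose.2]⟩
    refine congrArg Subtype.val (move_unique j' _ z ?_)
    refine (hmove T' _ _ h' v').choose_spec.trans ?_
    simp only [z, hv', Category.assoc]
    rw [(hmove T x₀ x₁ h v).choose_spec]
  φ_self T x v := move_unique j' _ _ (hmove T x x rfl v).choose_spec
  φ_comp T x₀ x₁ x₂ h₀₁ h₁₂ v := move_unique j' _ _
    (((hmove T x₁ x₂ h₁₂ _).choose_spec.trans (hmove T x₀ x₁ h₀₁ v).choose_spec).trans
      (hmove T x₀ x₂ (h₀₁.trans h₁₂) v).choose_spec.symm)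

variable (π) in
omit [GrpObj G] in
/-- the subgroup descends as a scheme with a monomorphism to `G` -/
theorem exists_descended_obj [Flat π] [Surjective π] [Mono j'.left] [IsAffineHom H'.hom]
    (hπ : Presieve.singleton π ∈ Scheme.fpqcPrecoverage S)
    (hmove : ∀ (T : Scheme.{u}) (x₀ x₁ : T ⟶ S') (_ : x₀ ≫ π = x₁ ≫ π) (v : Desc.Lifts H' x₀),
      ∃ v' : Desc.Lifts H' x₁, v'.1 ≫ j'.left ≫ pullback.fst G.hom π = v.1 ≫ j'.left ≫ pullback.fst G.hom π) :
    ∃ (U : Over S) (j : U ⟶ G) (φ : Red.bc π U ≅ H'), φ.hom ≫ j' = (Over.pullback π).map j := by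
  haveI : H13Desc.Eff.IsCover π := ⟨hπ⟩
  let D := moveDD π j' hmove
  haveI : IsAffineHom D.obj.hom := ‹IsAffineHom H'.hom›
  obtain ⟨U, ⟨e⟩⟩ := H15Magnet.AffineRep.isEffective_affine π D
  let g' : pullback π U.hom ⟶ G.left := e.hom.hom.left ≫ j'.left ≫ pullback.fst G.hom π
  have hπe : e.hom.hom.left ≫ H'.hom = pullback.fst π U.hom := Over.w e.hom.hom
  have hg : ∀ (T : Scheme.{u}) (w₀ w₁ : T ⟶ pullback π U.hom),
      w₀ ≫ pullback.snd π U.hom = w₁ ≫ pullback.snd π U.hom → w₀ ≫ g' = w₁ ≫ g' := by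
    intro T w₀ w₁ hw
    have hx : (w₀ ≫ pullback.fst π U.hom) ≫ π = (w₁ ≫ pullback.fst π U.hom) ≫ π := by
      rw [Category.assoc, Category.assoc, pullback.condition, ← Category.assoc, hw, Category.assoc]
    let v : Desc.Lifts H' (w₀ ≫ pullback.fst π U.hom) := ⟨w₀ ≫ e.hom.hom.left, by rw [Category.assoc, hπe]⟩
    let v₀ : Desc.Lifts ((Desc.toDD π).obj U).obj (w₀ ≫ pullback.fst π U.hom) := ⟨w₀, rfl⟩
    have h1 : ((hmove T _ _ hx v).choose).1 =
        (Desc.canMap π U _ (w₁ ≫ pullback.fst π U.hom) hx v₀).1 ≫ e.hom.hom.left :=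
      e.hom.comm _ _ hx v₀ v rfl
    have h2 := (hmove T _ _ hx v).choose_spec
    rw [h1] at h2
    have h3 : (Desc.canMap π U _ (w₁ ≫ pullback.fst π U.hom) hx v₀).1 = w₁ := by
      rw [Desc.canMap_val]
      exact pullback.hom_ext (pullback.lift_fst _ _ _) ((pullback.lift_snd _ _ _).trans hw)
    rw [h3] at h2
    simpa only [g', v, Category.assoc] using h2.symm
  obtain ⟨j₀, hj₀, -⟩ := existsUnique_desc π hπ U.hom g' hg
  have hj : j₀ ≫ G.hom = U.hom := by
    refine (existsUnique_desc π hπ U.hom (pullback.snd π U.hom ≫ U.hom) fun T w₀ w₁ h => by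
      rw [← Category.assoc, h, Category.assoc]).unique ?_ rfl
    rw [← Category.assoc, hj₀]
    simp only [g', Category.assoc, pullback.condition]
    rw [show j'.left ≫ pullback.snd G.hom π ≫ π = H'.hom ≫ π by rw [← Category.assoc]; congr 1; exact Over.w j',
      ← Category.assoc, hπe, pullback.condition]
  let e' : pullback π U.hom ≅ H'.left :=
    ⟨e.hom.hom.left, e.inv.hom.left, congrArg (fun k => k.hom.left) e.hom_inv_id,
      congrArg (fun k => k.hom.left) e.inv_hom_id⟩
  let φ : Red.bc π U ≅ H' := Over.isoMk (pullbackSymmetry U.hom π ≪≫ e') (by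
    change (_ ≫ e.hom.hom.left) ≫ H'.hom = pullback.snd U.hom π
    rw [Category.assoc, hπe]; exact pullbackSymmetry_hom_comp_fst _ _)
  refine ⟨U, Over.homMk j₀ hj, φ, Over.OverMorphism.ext (pullback.hom_ext ?_ ?_)⟩
  · have h1 : ((Over.pullback π).map (Over.homMk j₀ hj : U ⟶ G)).left ≫ pullback.fst G.hom π =
        pullback.fst U.hom π ≫ j₀ := pullback.lift_fst _ _ _
    rw [h1, ← pullbackSymmetry_hom_comp_snd U.hom π, Category.assoc, hj₀]
    simp [φ, e', g']
  · exact (Over.w (φ.hom ≫ j')).trans (Over.w ((Over.pullback π).map (Over.homMk j₀ hj : U ⟶ G))).symm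

variable {U : Over S} {j : U ⟶ G} {φ : Red.bc π U ≅ H'}

omit [GrpObj G] in
/-- the base change of the inclusion is the given immersion -/
theorem isPullback_left (hφ : φ.hom ≫ j' = (Over.pullback π).map j) :
    IsPullback (φ.inv.left ≫ pullback.fst U.hom π) j'.left j.left (pullback.fst G.hom π) := by
  have sq : IsPullback (pullback.fst U.hom π) ((Over.pullback π).map j).left j.left (pullback.fst G.hom π) := by
    refine IsPullback.of_bot ?_ (pullback.lift_fst _ _ _).symm (IsPullback.of_hasPullback G.hom π)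
    rw [Over.w j, show ((Over.pullback π).map j).left ≫ pullback.snd G.hom π = pullback.snd U.hom π from
      pullback.lift_snd _ _ _]
    exact IsPullback.of_hasPullback U.hom π
  refine sq.of_iso ((Over.forget S').mapIso φ) (Iso.refl _) (Iso.refl _) (Iso.refl _) ?_ ?_ (by simp) (by simp)
  · simp
  · simp only [Functor.mapIso_hom, Over.forget_map, Iso.refl_hom, Category.comp_id]
    exact (congrArg CommaMorphism.left hφ).symm

omit [GrpObj G] in
/-- the descended inclusion is an immersion -/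
theorem isImmersion_of_desc [IsSeparated G.hom] [Flat π] [Surjective π]
    (hcov : ∀ V : S.Opens, IsAffineOpen V → ∃ W : S'.Opens, IsCompact (W : Set S') ∧ π.base '' (W : Set S') = (V : Set S))
    [IsImmersion j'.left] [QuasiCompact U.hom] (hφ : φ.hom ≫ j' = (Over.pullback π).map j) :
    IsImmersion j.left := by
  haveI : QuasiCompact j.left := by
    haveI : QuasiCompact (j.left ≫ G.hom) := by rw [Over.w j]; infer_instance
    exact QuasiCompact.of_comp j.left G.hom
  let g := pullback.fst G.hom π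
  haveI : Flat g := inferInstance
  have sq := isPullback_left j' hφ
  haveI : IsImmersion (pullback.snd j.left g) := by
    rw [← sq.isoPullback_inv_snd]; infer_instance
  refine H13Desc.isImmersion_of_pullback j.left g (H13Desc.preimage_closure_range j.left g) ?_ ?_
  · intro s hs
    exact H21Diag.isOpen_of_cover g (cover_fst π G.hom hcov) s hs
  · intro V h
    refine H21Diag.of_fpqc_cover (@IsClosedImmersion) π hcov (j.left ∣_ V) (V.ι ≫ G.hom) fun s' => ?_
    obtain ⟨A, hA, hsA, -⟩ := exists_isAffineOpen_mem_and_subset (U := ⊤) (x := s') (Set.mem_univ _)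
    refine ⟨_, hA.fromSpec, inferInstance, by rw [hA.range_fromSpec]; exact hsA, ?_⟩
    let b := pullback.fst (V.ι ≫ G.hom) (hA.fromSpec ≫ π)
    have hb : (b ≫ V.ι) ≫ G.hom = (pullback.snd (V.ι ≫ G.hom) (hA.fromSpec ≫ π) ≫ hA.fromSpec) ≫ π := by
      rw [Category.assoc, pullback.condition, Category.assoc]
    let k := (isPullback_morphismRestrict g V).lift b (pullback.lift _ _ hb) (pullback.lift_fst _ _ _).symm
    have hk : k ≫ g ∣_ V = b := IsPullback.lift_fst _ _ _ _
    change IsClosedImmersion (pullback.snd (j.left ∣_ V) b)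
    rw [← hk, ← pullbackLeftPullbackSndIso_inv_snd_snd (j.left ∣_ V) (g ∣_ V) k,
      MorphismProperty.cancel_left_of_respectsIso (P := @IsClosedImmersion)]
    exact MorphismProperty.pullback_snd (P := @IsClosedImmersion) _ _ h

/-- a point seen over the cover -/
noncomputable def upPt (π : S' ⟶ S) {T : Over S} (a : T ⟶ G) : Over.mk (pullback.fst π T.hom) ⟶ Red.bc π G :=
  (Over.mapPullbackAdj π).homEquiv _ _
    ((Over.homMk (pullback.snd π T.hom) pullback.condition.symm :
      (Over.map π).obj (Over.mk (pullback.fst π T.hom)) ⟶ T) ≫ a)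

theorem upPt_mul {T : Over S} (a b : T ⟶ G) : upPt π (a * b) = upPt π a * upPt π b :=
  tr_injective (by rw [upPt, tr_homEquiv, tr_mul, upPt, upPt, tr_homEquiv, tr_homEquiv, MonObj.comp_mul])

theorem upPt_one {T : Over S} : upPt π (1 : T ⟶ G) = 1 := by
  have h := upPt_mul (π := π) (1 : T ⟶ G) 1
  rw [_root_.mul_one] at h
  exact left_eq_mul.mp h

theorem upPt_inv {T : Over S} (a : T ⟶ G) : upPt π a⁻¹ = (upPt π a)⁻¹ :=
  eq_inv_of_mul_eq_one_left (by rw [← upPt_mul, inv_mul_cancel, upPt_one])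

omit [GrpObj G] in
theorem upPt_fst {T : Over S} (a : T ⟶ G) :
    (upPt π a).left ≫ pullback.fst G.hom π = pullback.snd π T.hom ≫ a.left := by
  rw [← tr_left, upPt, tr_homEquiv]
  rfl

omit [GrpObj G] in
/-- a point whose pullback lies in the subgroup lies in the descended subgroup -/
theorem exists_lift_of_upPt (hπ : Presieve.singleton π ∈ Scheme.fpqcPrecoverage S) [Mono j.left]
    (hφ : φ.hom ≫ j' = (Over.pullback π).map j) {T : Over S} (a : T ⟶ G)
    (h : Over.mk (pullback.fst π T.hom) ⟶ H') (hh : h ≫ j' = upPt π a) : ∃ b : T ⟶ U, b ≫ j = a := by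
  obtain ⟨c, hc⟩ := exists_lift_desc π hπ T.hom j.left a.left ((h ≫ φ.inv).left ≫ pullback.fst U.hom π) (by
    rw [← upPt_fst, ← hh, Category.assoc,
      show pullback.fst U.hom π ≫ j.left = ((Over.pullback π).map j).left ≫ pullback.fst G.hom π from
        (pullback.lift_fst _ _ _).symm, ← hφ]
    simp)
  refine ⟨Over.homMk c (by rw [← Over.w j, ← Category.assoc, hc]; exact Over.w a), Over.OverMorphism.ext hc⟩

omit [GrpObj G] in
theorem exists_upPt_of_lift (hφ : φ.hom ≫ j' = (Over.pullback π).map j) {T : Over S} (b : T ⟶ U) :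
    ∃ h : Over.mk (pullback.fst π T.hom) ⟶ H', h ≫ j' = upPt π (b ≫ j) := by
  refine ⟨upPt π b ≫ φ.hom, ?_⟩
  rw [Category.assoc, hφ]
  refine ((Over.mapPullbackAdj π).homEquiv_naturality_right _ j).symm.trans ?_
  exact congrArg _ (Category.assoc _ b j)

variable (π) in
/-- the descended subgroup is a group of multiplicative type -/
theorem exists_grpObj_desc [Flat π] [Surjective π]
    (hcov : ∀ V : S.Opens, IsAffineOpen V → ∃ W : S'.Opens, IsCompact (W : Set S') ∧ π.base '' (W : Set S') = (V : Set S))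
    [GrpObj H'] [IsMonHom j'] [Mono j'.left] [Mono j.left] (hH' : SGA3x.IsMultTypeFT H')
    (hφ : φ.hom ≫ j' = (Over.pullback π).map j) :
    ∃ _ : GrpObj U, IsMonHom j ∧ SGA3x.IsMultTypeFT U := by
  have hπ := singleton_mem_fpqc π hcov
  haveI : Mono j := Over.mono_of_mono_left _
  haveI : Mono j' := Over.mono_of_mono_left _
  obtain ⟨inst, hj⟩ := exists_grpObj_of_mono j
    (exists_lift_of_upPt j' hπ hφ (1 : 𝟙_ (Over S) ⟶ G) 1 (by rw [MonObj.one_comp, upPt_one]))
    (by
      obtain ⟨h₁, e₁⟩ := exists_upPt_of_lift j' hφ (fst U U)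
      obtain ⟨h₂, e₂⟩ := exists_upPt_of_lift j' hφ (snd U U)
      exact exists_lift_of_upPt j' hπ hφ _ (h₁ * h₂) (by rw [MonObj.mul_comp, e₁, e₂, upPt_mul]))
    (by
      obtain ⟨h₁, e₁⟩ := exists_upPt_of_lift j' hφ (𝟙 U)
      rw [Category.id_comp] at e₁
      exact exists_lift_of_upPt j' hπ hφ _ h₁⁻¹ (by rw [GrpObj.inv_comp, e₁, upPt_inv]))
  letI := inst
  refine ⟨inst, hj, ?_⟩
  haveI : IsMonHom φ.hom := H21Diag.isMonHom_of_mul _ fun a b => (cancel_mono j').mp (by
    haveI : IsMonHom ((Over.pullback π).map j : Red.bc π U ⟶ Red.bc π G) :=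
      H21Diag.isMonHom_of_mul _ fun x y => MonObj.mul_comp _ _ _
    rw [Category.assoc, hφ, MonObj.mul_comp, MonObj.mul_comp, Category.assoc, Category.assoc, hφ])
  let Φ : Grp.mk (Red.bc π U) ≅ Grp.mk H' := Grp.mkIso' φ
  obtain ⟨T, g, hg, hs, hqc, hloc⟩ := hH'
  refine ⟨T, g ≫ π, inferInstance, inferInstance, H21Diag.comp_cover π g hcov hqc, fun t => ?_⟩
  obtain ⟨W, hW, M, _, hfg, ⟨e⟩⟩ := hloc t
  exact ⟨W, hW, M, inferInstance, hfg, ⟨H21Diag.bcCongrIso (Category.assoc _ _ _).symm U ≪≫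
    H21Diag.bcCompIso (W.ι ≫ g) π U ≪≫ H21Diag.bcMapIso (W.ι ≫ g) Φ ≪≫ e⟩⟩

end Groth.Agent.H21Cent
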