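import Groth.Agent.H21Cent.Descent
import Groth.Prelude.Def_Desc
import Groth.Agent.H21Diag.SubgroupEqLocus

/-!
A central subgroup of multiplicative type over the cover has the same image along both projections.
-/

set_option autoImplicit false
set_option linter.style.haveILetI false
set_option backward.isDefEq.respectTransparency false
set_option maxHeartbeats 800000
set_option synthInstance.maxHeartbeats 200000

universe u

open CategoryTheory MonoidalCategory CartesianMonoidalCategory MonObj GrpObj AlgebraicGeometry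
open CategoryTheory.Limits Opposite
open Groth.Agent.H21Desc

namespace Groth.Agent.H21Cent

variable {S S' : Scheme.{u}}

theorem tr_left {p : S' ⟶ S} {V : Over S'} {X : Over S} (g : V ⟶ Red.bc p X) :
    (tr g).left = g.left ≫ pullback.fst X.hom p := by
  simp [tr]
  rfl

variable {G : Over S} [GrpObj G] {π : S' ⟶ S} {H' : Over S'} (j' : H' ⟶ Red.bc π G)

omit [GrpObj G] in
theorem comp_fst_hom :
    (j'.left ≫ pullback.fst G.hom π) ≫ G.hom = H'.hom ≫ π := by
  rw [Category.assoc, pullback.condition, ← Category.assoc]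
  congr 1
  exact Over.w j'

/-- the subgroup moved to a scheme over the cover -/
noncomputable def subY {Y : Scheme.{u}} (r : Y ⟶ S') {q : Y ⟶ S} (e : r ≫ π = q) :
    Red.bc r H' ⟶ Red.bc q G :=
  Over.homMk (pullback.lift (pullback.fst H'.hom r ≫ j'.left ≫ pullback.fst G.hom π) (pullback.snd H'.hom r)
    (by rw [Category.assoc, comp_fst_hom, ← Category.assoc, pullback.condition, Category.assoc, e]))
    (pullback.lift_snd _ _ _)

variable {Y : Scheme.{u}} {r : Y ⟶ S'} {q : Y ⟶ S} (e : r ≫ π = q)

theorem subY_fst : (subY j' r e).left ≫ pullback.fst G.hom q =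
    pullback.fst H'.hom r ≫ j'.left ≫ pullback.fst G.hom π :=
  pullback.lift_fst _ _ _

/-- a point over `Y`, seen over `S` in two ways -/
noncomputable def reassocY (V : Over Y) : (Over.map q).obj V ⟶ (Over.map π).obj ((Over.map r).obj V) :=
  Over.homMk (𝟙 _) (by simp [← e])

theorem tr_comp_subY {V : Over Y} (a : V ⟶ Red.bc r H') :
    tr (a ≫ subY j' r e) = reassocY e V ≫ tr (tr a ≫ j') := by
  refine Over.OverMorphism.ext ?_
  rw [tr_left, Over.comp_left, Over.comp_left, tr_left, Over.comp_left, tr_left, Category.assoc, subY_fst]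
  simp only [reassocY, Over.homMk_left, Category.assoc]
  exact (Category.id_comp _).symm

variable [GrpObj H'] [IsMonHom j']

theorem isMonHom_subY : IsMonHom (subY j' r e) :=
  H21Diag.isMonHom_of_mul _ fun a b => tr_injective (by
    rw [tr_mul, tr_comp_subY, tr_comp_subY, tr_comp_subY, tr_mul, MonObj.mul_comp, tr_mul, MonObj.comp_mul])

omit [GrpObj H'] [IsMonHom j'] in
theorem central_subY (hc : ∀ (X : Over S') (g : X ⟶ Red.bc π G) (h : X ⟶ H'), g * (h ≫ j') = (h ≫ j') * g)
    {V : Over Y} (g : V ⟶ Red.bc q G) (h : V ⟶ Red.bc r H') :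
    g * (h ≫ subY j' r e) = (h ≫ subY j' r e) * g := by
  refine tr_injective ?_
  rw [tr_mul, tr_mul, tr_comp_subY]
  let b : (Over.map π).obj ((Over.map r).obj V) ⟶ (Over.map q).obj V := Over.homMk (𝟙 _) (by simp [← e])
  have hb : reassocY e V ≫ b = 𝟙 _ := Over.OverMorphism.ext (Category.id_comp _)
  let g' : (Over.map r).obj V ⟶ Red.bc π G := (Over.mapPullbackAdj π).homEquiv _ _ (b ≫ tr g)
  have hg : tr g = reassocY e V ≫ tr g' := by rw [tr_homEquiv, ← Category.assoc, hb, Category.id_comp]
  rw [hg, ← MonObj.comp_mul, ← MonObj.comp_mul, ← tr_mul, ← tr_mul, hc]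

omit [GrpObj H'] [IsMonHom j'] in
theorem mono_subY [Mono j'.left] : Mono (subY j' r e).left := by
  constructor
  intro Z g g' h
  have h2 : g ≫ pullback.snd H'.hom r = g' ≫ pullback.snd H'.hom r := by
    have := congrArg (· ≫ pullback.snd G.hom q) h
    simpa [subY] using this
  refine pullback.hom_ext ((cancel_mono j'.left).mp (pullback.hom_ext ?_ ?_)) h2
  · have := congrArg (· ≫ pullback.fst G.hom q) h
    simpa only [Category.assoc, subY_fst] using this
  · simp only [Category.assoc, show j'.left ≫ pullback.snd G.hom π = H'.hom from Over.w j', pullback.condition]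
    simp only [← Category.assoc, h2]

omit [GrpObj H'] [IsMonHom j'] in
/-- where the two maps to the cover agree the two subgroups agree -/
theorem leOn_of_eq {r' : Y ⟶ S'} (e' : r' ≫ π = q) {T : Scheme.{u}} (v : T ⟶ Y) (hv : v ≫ r = v ≫ r') :
    H21Diag.LEOn (subY j' r e) (subY j' r' e') v := by
  intro X x h
  have hw : h.left ≫ pullback.snd H'.hom r = x ≫ v := Over.w h
  have hk : (h.left ≫ pullback.fst H'.hom r) ≫ H'.hom = (x ≫ v) ≫ r' := by
    rw [Category.assoc, pullback.condition, ← Category.assoc, hw, Category.assoc, hv, Category.assoc]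
  refine ⟨Over.homMk (pullback.lift (h.left ≫ pullback.fst H'.hom r) (x ≫ v) hk) (pullback.lift_snd _ _ _),
    Over.OverMorphism.ext (pullback.hom_ext ?_ ?_)⟩
  · simp only [Over.comp_left, Over.homMk_left, Category.assoc, subY_fst, pullback.lift_fst_assoc]
  · exact (Over.w (_ ≫ subY j' r' e')).trans (Over.w (_ ≫ subY j' r e)).symm

/-- A central subgroup of multiplicative type over the cover has the same image along both projections:
its points can be moved between points of the cover over the same point of the base. -/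
theorem exists_move [IsSeparated G.hom] [LocallyOfFiniteType G.hom] [Mono j'.left]
    (hH' : SGA3x.IsMultTypeFT H') [Flat π] [Surjective π]
    (hconn : ∀ s : S, ConnectedSpace ↥(pullback π (Red.geomPt s)))
    (hc : ∀ (X : Over S') (g : X ⟶ Red.bc π G) (h : X ⟶ H'), g * (h ≫ j') = (h ≫ j') * g)
    {T : Scheme.{u}} (x₀ x₁ : T ⟶ S') (hx : x₀ ≫ π = x₁ ≫ π) (v : Desc.Lifts H' x₀) :
    ∃ v' : Desc.Lifts H' x₁, v'.1 ≫ j'.left ≫ pullback.fst G.hom π = v.1 ≫ j'.left ≫ pullback.fst G.hom π := by
  haveI := geometricallyConnected_of_geomPt π hconn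
  let r₁ := pullback.fst π π
  let r₂ := pullback.snd π π
  let q₀ := r₁ ≫ π
  let i₁ := subY j' r₁ (q := q₀) rfl
  let i₂ := subY j' r₂ (q := q₀) pullback.condition.symm
  haveI : IsMonHom i₁ := isMonHom_subY j' rfl
  haveI : IsMonHom i₂ := isMonHom_subY j' pullback.condition.symm
  haveI : Mono i₂.left := mono_subY j' pullback.condition.symm
  haveI : IsSeparated (Red.bc q₀ G).hom := inferInstanceAs (IsSeparated (pullback.snd G.hom q₀))
  obtain ⟨hU, hV⟩ := H21Diag.exists_clopen_le i₁ i₂ (H21Diag.isMultTypeFT_bc hH' r₁)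
    (H21Diag.isMultTypeFT_bc hH' r₂) (Or.inr (inferInstanceAs (LocallyOfFiniteType (pullback.snd G.hom q₀))))
    (fun X h h' => central_subY j' pullback.condition.symm hc (h ≫ i₁) h')
  have hdiag : ∀ x : S', H21Diag.LEOn i₁ i₂ ((pullback π π).fromSpecResidueField (pullback.diagonal π x)) := by
    intro x
    refine leOn_of_eq j' _ _ _ ?_
    have : Surjective (Spec.map ((pullback.diagonal π).residueFieldMap x)) :=
      ⟨fun y => ⟨(default : PrimeSpectrum (S'.residueField x)),
        Subsingleton.elim (α := PrimeSpectrum ((pullback π π).residueField (pullback.diagonal π x))) _ _⟩⟩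
    have : Flat (Spec.map ((pullback.diagonal π).residueFieldMap x)) := by
      rw [HasRingHomProperty.Spec_iff (P := @Flat)]
      letI := ((pullback.diagonal π).residueFieldMap x).hom.toAlgebra
      exact RingHom.flat_algebraMap_iff.mpr inferInstance
    have : Epi (Spec.map ((pullback.diagonal π).residueFieldMap x)) := Flat.epi_of_flat_of_surjective _
    rw [← cancel_epi (Spec.map ((pullback.diagonal π).residueFieldMap x)),
      Scheme.Hom.SpecMap_residueFieldMap_fromSpecResidueField_assoc,
      Scheme.Hom.SpecMap_residueFieldMap_fromSpecResidueField_assoc]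
    simp [r₁, r₂]
  have hall : ∀ z, H21Diag.LEOn i₁ i₂ ((pullback π π).fromSpecResidueField z) := fun z => by
    have hsl : _root_.IsConnected (r₁ ⁻¹' {r₁ z}) := r₁.isConnected_preimage_singleton _
    have hx : pullback.diagonal π (r₁ z) ∈ r₁ ⁻¹' {r₁ z} := by
      change r₁ (pullback.diagonal π (r₁ z)) = r₁ z
      rw [← Scheme.Hom.comp_apply, pullback.diagonal_fst]
      rfl
    exact hsl.isPreconnected.subset_isClopen hU ⟨_, hx, hdiag _⟩ rfl
  have hle : H21Diag.LEOn i₁ i₂ (𝟙 (pullback π π)) := by
    have h := (hV ⊤ fun s _ => hall s).comp (pullback π π).topIso.inv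
    rwa [← Scheme.topIso_hom, Iso.inv_hom_id] at h
  let y : T ⟶ pullback π π := pullback.lift x₀ x₁ hx
  obtain ⟨h', hh'⟩ := hle T y (Over.homMk (pullback.lift v.1 y (by
    rw [v.2]; exact (pullback.lift_fst _ _ _).symm))
    ((pullback.lift_snd _ _ _).trans (Category.comp_id _).symm))
  refine ⟨⟨h'.left ≫ pullback.fst H'.hom r₂, ?_⟩, ?_⟩
  · have hw : h'.left ≫ pullback.snd H'.hom r₂ = y := (Over.w h').trans (Category.comp_id _)
    rw [Category.assoc, pullback.condition, ← Category.assoc, hw]
    exact pullback.lift_snd _ _ _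
  · have := congrArg (fun k => k.left ≫ pullback.fst G.hom q₀) hh'
    simpa only [Over.comp_left, Over.homMk_left, Category.assoc, i₁, i₂, subY_fst, pullback.lift_fst_assoc] using this

omit [GrpObj G] [GrpObj H'] [IsMonHom j'] in
/-- a moved point is unique -/
theorem move_unique [Mono j'.left] {T : Scheme.{u}} {x : T ⟶ S'} (v v' : Desc.Lifts H' x)
    (h : v.1 ≫ j'.left ≫ pullback.fst G.hom π = v'.1 ≫ j'.left ≫ pullback.fst G.hom π) : v = v' := by
  refine Subtype.ext ((cancel_mono j'.left).mp (pullback.hom_ext (by simpa only [Category.assoc] using h) ?_))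
  simp only [Category.assoc, show j'.left ≫ pullback.snd G.hom π = H'.hom from Over.w j', v.2, v'.2]

end Groth.Agent.H21Cent
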