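import Groth.Agent.H21Desc.HomSheaf
import Groth.Agent.H21Desc.FamChange
import Groth.Agent.H21Diag.Conj
import Groth.Agent.H21Diag.FiniteType
import Groth.Agent.S5286
import Groth.Agent.H19Grp.AlgClosedGeom

/-!
Descent of central homomorphisms from groups of multiplicative type along coverings with connected fibres.
-/

set_option autoImplicit false
set_option linter.style.haveILetI false
set_option backward.isDefEq.respectTransparency false
set_option maxHeartbeats 800000
set_option synthInstance.maxHeartbeats 200000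

universe u

open CategoryTheory MonoidalCategory CartesianMonoidalCategory MonObj GrpObj AlgebraicGeometry
open CategoryTheory.Limits Opposite
open Groth.Agent.H21Desc

namespace Groth.Agent.H21Cent

variable {S S' : Scheme.{u}}

/-- connected geometric fibres means geometrically connected -/
theorem geometricallyConnected_of_geomPt (f : S' ⟶ S)
    (hconn : ∀ s : S, ConnectedSpace ↥(pullback f (Red.geomPt s))) : GeometricallyConnected f := by
  refine ⟨fun Ω _ y Z a b hP => ?_⟩
  suffices h : ConnectedSpace ↥(pullback f y) from hP.isoPullback.hom.homeomorph.connectedSpace_iff.mpr h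
  obtain ⟨⟨s, φ⟩, rfl⟩ := (Scheme.SpecToEquivOfField Ω S).symm.surjective y
  letI : Algebra (S.residueField s) Ω := φ.hom.toAlgebra
  let Ω' := AlgebraicClosure Ω
  let em : AlgebraicClosure (S.residueField s) →ₐ[S.residueField s] Ω' := IsAlgClosed.lift
  let f₀ := pullback.snd f (Red.geomPt s)
  haveI := hconn s
  haveI := H19Grp.geometricallyConnected_of_connectedSpace f₀
  let q : Spec (CommRingCat.of Ω') ⟶ Spec (CommRingCat.of Ω) := Spec.map (CommRingCat.ofHom (algebraMap Ω Ω'))
  let y : Spec (CommRingCat.of Ω) ⟶ S := Spec.map φ ≫ S.fromSpecResidueField s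
  change ConnectedSpace ↥(pullback f y)
  have hy : q ≫ y = Spec.map (CommRingCat.ofHom em.toRingHom) ≫ Red.geomPt s := by
    show q ≫ Spec.map φ ≫ _ = _ ≫ Spec.map _ ≫ _
    rw [← Category.assoc, ← Category.assoc, ← Spec.map_comp, ← Spec.map_comp]
    congr 2
    ext r
    show algebraMap Ω Ω' (φ.hom r) = em (algebraMap _ _ r)
    rw [em.commutes]
    rfl
  haveI hi : ConnectedSpace ↥(pullback f (q ≫ y)) := by
    haveI : ConnectedSpace ↥(pullback f₀ (Spec.map (CommRingCat.ofHom em.toRingHom))) :=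
      GeometricallyConnected.geometrically_connectedSpace (f := f₀) _ _ _ (.of_hasPullback _ _)
    rw [hy]
    exact (pullbackLeftPullbackSndIso f (Red.geomPt s) _).hom.homeomorph.connectedSpace_iff.mp inferInstance
  haveI : Surjective q := ⟨fun z => ⟨(default : PrimeSpectrum Ω'), Subsingleton.elim (α := PrimeSpectrum Ω) _ _⟩⟩
  haveI : Surjective (pullback.map f (q ≫ y) f y (𝟙 _) q (𝟙 _) (by simp) (by simp)) := by
    have h2 : IsPullback (pullback.map f (q ≫ y) f y (𝟙 _) q (𝟙 _) (by simp) (by simp)) (pullback.snd f (q ≫ y))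
        (pullback.snd f y) q := by
      refine IsPullback.of_right ?_ (by simp [pullback.map]) (IsPullback.of_hasPullback f y)
      simpa [pullback.map] using IsPullback.of_hasPullback f (q ≫ y)
    exact MorphismProperty.of_isPullback (P := @Surjective) h2.flip inferInstance
  exact Function.Surjective.connectedSpace (Scheme.Hom.surjective _)
    (pullback.map f (q ≫ y) f y (𝟙 _) q (𝟙 _) _ _).continuous

/-- a covering for the fpqc topology -/
theorem singleton_mem_fpqc (π : S' ⟶ S) [Flat π] [Surjective π]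
    (hcov : ∀ V : S.Opens, IsAffineOpen V → ∃ W : S'.Opens, IsCompact (W : Set S') ∧ π.base '' (W : Set S') = (V : Set S)) :
    Presieve.singleton π ∈ Scheme.fpqcPrecoverage S := by
  haveI : QuasiCompactCover (PreZeroHypercover.singleton π) := ⟨fun {U} hU => by
    obtain ⟨W, hW, e⟩ := hcov U hU
    rw [← e]
    exact IsCompactOpenCovered.image (X := fun i => ((PreZeroHypercover.singleton π).X i : Type u)) (f := fun i => ⇑((PreZeroHypercover.singleton π).f i)) (i := PUnit.unit) W hW⟩
  refine ⟨?_, ?_⟩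
  · rw [Scheme.qcPrecoverage, PreZeroHypercoverFamily.mem_precoverage_iff]
    refine ⟨PreZeroHypercover.singleton π, ?_, (PreZeroHypercover.presieve₀_singleton _).symm⟩
    simp only [Scheme.qcCoverFamily_property, Scheme.quasiCompactCover_iff]
    infer_instance
  · rw [Scheme.singleton_mem_precoverage_iff]
    exact ⟨π.surjective, inferInstance⟩

variable {R : Scheme.{u}} {q : R ⟶ S} {H G : Over S} [GrpObj H] [GrpObj G]

/-- a family over `R` as a morphism of base changes -/
noncomputable def toBc (F : H ⊗ Over.mk q ⟶ G) : Red.bc q H ⟶ Red.bc q G :=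
  (Over.mapPullbackAdj q).homEquiv _ _ (lift (tr (𝟙 (Red.bc q H))) (strMap q (Red.bc q H)) ≫ F)

omit [GrpObj H] [GrpObj G] in
theorem tr_comp_toBc (F : H ⊗ Over.mk q ⟶ G) {V : Over R} (a : V ⟶ Red.bc q H) :
    tr (a ≫ toBc F) = lift (tr a) (strMap q V) ≫ F := by
  rw [tr_comp, toBc, tr_homEquiv, comp_lift_assoc, ← tr_comp, Category.comp_id]
  congr 2
  exact Over.OverMorphism.ext (Over.w a)

theorem isMonHom_toBc {F : H ⊗ Over.mk q ⟶ G} (hF : AutFam.IsHomFamily H G F) : IsMonHom (toBc F) :=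
  H21Diag.isMonHom_of_mul _ fun a b => tr_injective (by
    rw [tr_mul, tr_comp_toBc, tr_comp_toBc, tr_comp_toBc, tr_mul]
    exact hF _ _ _ _)

omit [GrpObj H] in
theorem tr_one {V : Over R} : tr (1 : V ⟶ Red.bc q G) = 1 := by
  have h := tr_mul (p := q) (1 : V ⟶ Red.bc q G) 1
  rw [_root_.mul_one] at h
  exact left_eq_mul.mp h

omit [GrpObj H] in
theorem eq_one_of_toBc_eq_one {F : H ⊗ Over.mk q ⟶ G} (h : toBc F = 1) : F = 1 := by
  let w := snd H (Over.mk q)
  let V := up w
  let a : V ⟶ Red.bc q H := bwd w (fst H (Over.mk q))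
  have h1 := tr_comp_toBc F a
  rw [h, MonObj.comp_one, tr_one] at h1
  have h2 := congrArg (jmap w ≫ ·) h1
  simp only [MonObj.comp_one, comp_lift_assoc] at h2
  have e1 : jmap w ≫ tr a = fst H (Over.mk q) := fwd_bwd w (fst H (Over.mk q))
  have e2 : jmap w ≫ strMap q V = snd H (Over.mk q) := Over.OverMorphism.ext (Category.id_comp _)
  rw [e1, e2, lift_fst_snd, Category.id_comp] at h2
  exact h2.symm

theorem exists_descended_hom (hH : SGA3x.IsMultTypeFT H) [IsSeparated G.hom] [LocallyOfFinitePresentation G.hom]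
    [QuasiCompact G.hom] (π : S' ⟶ S) [Flat π] [Surjective π]
    (hcov : ∀ V : S.Opens, IsAffineOpen V → ∃ W : S'.Opens, IsCompact (W : Set S') ∧ π.base '' (W : Set S') = (V : Set S))
    (hconn : ∀ s : S, ConnectedSpace ↥(pullback π (Red.geomPt s)))
    (u' : Red.bc π H ⟶ Red.bc π G) [IsMonHom u']
    (hc : ∀ (X : Over S') (g : X ⟶ Red.bc π G) (h : X ⟶ Red.bc π H), g * (h ≫ u') = (h ≫ u') * g) :
    ∃! u : H ⟶ G, IsMonHom u ∧ (Over.pullback π).map u = u' := by
  haveI := geometricallyConnected_of_geomPt π hconn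
  let X' : Over S := Over.mk π
  let Φ := fam u'
  have hΦ : AutFam.IsHomFamily H G Φ := fun W g₁ g₂ w => by
    rw [lift_fam, lift_fam, lift_fam, bwd_mul, MonObj.mul_comp, fwd_mul]
  have hΦc : ∀ (W : Over S) (g : W ⟶ H) (w : W ⟶ X') (k : W ⟶ G),
      k * (lift g w ≫ Φ) = (lift g w ≫ Φ) * k := fun W g w k => by
    rw [lift_fam, ← fwd_bwd w k, ← fwd_mul, ← fwd_mul]
    congr 1
    exact hc _ _ _
  let Y : Over S := Over.mk (pullback.fst π π ≫ π)
  let r₁ : Y ⟶ X' := Over.homMk (pullback.fst π π)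
  let r₂ : Y ⟶ X' := Over.homMk (pullback.snd π π) pullback.condition.symm
  let F : H ⊗ Y ⟶ G := ((H ◁ r₁) ≫ Φ) * ((H ◁ r₂) ≫ Φ)⁻¹
  have hFl : ∀ (W : Over S) (g : W ⟶ H) (t : W ⟶ Y),
      lift g t ≫ F = (lift g (t ≫ r₁) ≫ Φ) * (lift g (t ≫ r₂) ≫ Φ)⁻¹ := fun W g t => by
    simp only [F, MonObj.comp_mul, GrpObj.comp_inv, lift_whiskerLeft_assoc]
  have hF : AutFam.IsHomFamily H G F := fun W g₁ g₂ t => by
    rw [hFl, hFl, hFl, hΦ, hΦ, _root_.mul_inv_rev]
    have h1 := hΦc W g₁ (t ≫ r₂) (lift g₂ (t ≫ r₁) ≫ Φ * (lift g₂ (t ≫ r₂) ≫ Φ)⁻¹)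
    generalize lift g₁ (t ≫ r₁) ≫ Φ = a, lift g₂ (t ≫ r₁) ≫ Φ = b, lift g₁ (t ≫ r₂) ≫ Φ = c,
      lift g₂ (t ≫ r₂) ≫ Φ = d at h1 ⊢
    have h2 : (b * d⁻¹) * c⁻¹ = c⁻¹ * (b * d⁻¹) := (Commute.inv_right (show Commute (b * d⁻¹) c from h1)).eq
    calc a * b * (d⁻¹ * c⁻¹) = a * ((b * d⁻¹) * c⁻¹) := by group
      _ = a * (c⁻¹ * (b * d⁻¹)) := by rw [h2]
      _ = a * c⁻¹ * (b * d⁻¹) := by group
  let w : Red.bc Y.hom H ⟶ Red.bc Y.hom G := toBc (q := Y.hom) F
  haveI : IsMonHom w := isMonHom_toBc hF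
  haveI : IsSeparated (Red.bc Y.hom G).hom := inferInstanceAs (IsSeparated (pullback.snd G.hom Y.hom))
  obtain ⟨U, hUc, hU, hU1⟩ := S5286.result (Red.bc Y.hom H) (Red.bc Y.hom G) (H21Diag.isMultTypeFT_bc hH Y.hom)
    (Or.inr ⟨inferInstanceAs (LocallyOfFinitePresentation (pullback.snd G.hom Y.hom)),
      inferInstanceAs (QuasiCompact (pullback.snd G.hom Y.hom)), inferInstance⟩) w
  have hdiag : ∀ x : S', pullback.diagonal π x ∈ U := fun x => by
    let z := pullback.diagonal π x
    rw [hU]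
    refine H21Diag.trivAt_of_forall w fun V g => tr_injective ?_
    rw [tr_comp_toBc, tr_one, hFl]
    have hp : ∀ (W : Scheme.{u}) (p : W ⟶ Spec (Y.left.residueField z)),
        p ≫ Y.left.fromSpecResidueField z ≫ pullback.fst π π = p ≫ Y.left.fromSpecResidueField z ≫ pullback.snd π π := by
      intro W p
      congr 1
      have : Surjective (Spec.map ((pullback.diagonal π).residueFieldMap x)) :=
        ⟨fun y => ⟨(default : PrimeSpectrum (S'.residueField x)), Subsingleton.elim (α := PrimeSpectrum (Y.left.residueField z)) _ _⟩⟩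
      have : Flat (Spec.map ((pullback.diagonal π).residueFieldMap x)) := by
        rw [HasRingHomProperty.Spec_iff (P := @Flat)]
        letI := ((pullback.diagonal π).residueFieldMap x).hom.toAlgebra
        exact RingHom.flat_algebraMap_iff.mpr inferInstance
      have : Epi (Spec.map ((pullback.diagonal π).residueFieldMap x)) := Flat.epi_of_flat_of_surjective _
      have e0 : Spec.map ((pullback.diagonal π).residueFieldMap x) ≫ Y.left.fromSpecResidueField z =
          S'.fromSpecResidueField x ≫ pullback.diagonal π :=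
        Scheme.Hom.SpecMap_residueFieldMap_fromSpecResidueField _ x
      rw [← cancel_epi (Spec.map ((pullback.diagonal π).residueFieldMap x))]
      refine ((Category.assoc _ _ _).symm.trans (congrArg (· ≫ pullback.fst π π) e0)).trans ?_
      refine Eq.trans ?_ ((Category.assoc _ _ _).symm.trans (congrArg (· ≫ pullback.snd π π) e0)).symm
      simp only [Category.assoc]
      exact congrArg (S'.fromSpecResidueField x ≫ ·)
        ((pullback.diagonal_fst π).trans (pullback.diagonal_snd π).symm)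
    have e : strMap Y.hom ((Over.map (Y.left.fromSpecResidueField z)).obj V) ≫ r₁ =
        strMap Y.hom ((Over.map (Y.left.fromSpecResidueField z)).obj V) ≫ r₂ :=
      Over.OverMorphism.ext (((Category.assoc _ _ _).trans (hp _ V.hom)).trans (Category.assoc _ _ _).symm)
    rw [e, mul_inv_cancel]
  have hall : ∀ z : Y.left, z ∈ U := fun z => by
    let x := pullback.fst π π z
    have hsl : _root_.IsConnected ((pullback.fst π π) ⁻¹' {x}) := (pullback.fst π π).isConnected_preimage_singleton x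
    have hx : pullback.diagonal π x ∈ (pullback.fst π π) ⁻¹' {x} := by
      change pullback.fst π π (pullback.diagonal π x) = x
      rw [← Scheme.Hom.comp_apply, pullback.diagonal_fst]
      rfl
    exact hsl.isPreconnected.subset_isClopen ⟨hUc, U.2⟩ ⟨_, hx, hdiag x⟩ rfl
  have hUtop : U = ⊤ := TopologicalSpace.Opens.ext (Set.eq_univ_of_forall hall)
  have hw : w = 1 := by
    haveI : IsIso U.ι := by subst hUtop; exact (Scheme.topIso _).isIso_hom
    refine Over.OverMorphism.ext ((cancel_epi (pullback.fst (Red.bc Y.hom H).hom U.ι)).mp ?_)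
    have h1 : ((Over.pullback U.ι).map w).left ≫ pullback.fst (Red.bc Y.hom G).hom U.ι =
        pullback.fst (Red.bc Y.hom H).hom U.ι ≫ w.left := pullback.lift_fst _ _ _
    rw [← h1, hU1]
    have h2 : (1 : Red.bc Y.hom H ⟶ Red.bc Y.hom G) = toUnit _ ≫ η := Hom.one_def
    have h3 : ((Over.pullback U.ι).map (1 : Red.bc Y.hom H ⟶ Red.bc Y.hom G)).left ≫
        pullback.fst (Red.bc Y.hom G).hom U.ι = pullback.fst (Red.bc Y.hom H).hom U.ι ≫
          (1 : Red.bc Y.hom H ⟶ Red.bc Y.hom G).left := pullback.lift_fst _ _ _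
    rw [← h3]
    congr 2
    exact (Functor.map_one (Over.pullback U.ι)).symm
  have hFr : (H ◁ r₁) ≫ Φ = (H ◁ r₂) ≫ Φ := mul_inv_eq_one.mp (eq_one_of_toBc_eq_one (q := Y.hom) (F := F) hw)
  have hsh := homFam_isSheaf_fpqc H G
  rw [isSheaf_iff_isSheaf_of_type] at hsh
  let t : X' ⟶ 𝟙_ (Over S) := toUnit X'
  have hshf : (Presieve.singleton t).IsSheafFor (homFam H G) := by
    rw [Presieve.isSheafFor_iff_generate]
    refine hsh _ ?_
    rw [GrothendieckTopology.mem_over_iff]
    refine GrothendieckTopology.superset_covering _ ?_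
      (Precoverage.generate_mem_toGrothendieck (singleton_mem_fpqc π hcov))
    rintro Z g ⟨W, k, _, ⟨⟩, rfl⟩
    rw [Sieve.overEquiv_iff]
    exact ⟨X', Over.homMk k (by simp [X']), t, ⟨⟩, Over.OverMorphism.ext (by simp [t, X'])⟩
  have hcomp : ∀ {Z : Over S} (p₁ p₂ : Z ⟶ X'), p₁ ≫ t = p₂ ≫ t →
      (homFam H G).map p₁.op ⟨Φ, hΦ⟩ = (homFam H G).map p₂.op ⟨Φ, hΦ⟩ := fun {Z} p₁ p₂ _ => by
    let c : Z ⟶ Y := Over.homMk (pullback.lift p₁.left p₂.left ((Over.w p₁).trans (Over.w p₂).symm))
      (by simp [Y, X'] ; exact Over.w p₁)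
    have c1 : c ≫ r₁ = p₁ := Over.OverMorphism.ext (pullback.lift_fst _ _ _)
    have c2 : c ≫ r₂ = p₂ := Over.OverMorphism.ext (pullback.lift_snd _ _ _)
    refine Subtype.ext ?_
    rw [homFam_map_val, homFam_map_val, ← c1, ← c2, whiskerLeft_comp_assoc, whiskerLeft_comp_assoc, hFr]
  rw [Presieve.isSheafFor_singleton] at hshf
  obtain ⟨ψ, hψ, hψu⟩ := hshf ⟨Φ, hΦ⟩ hcomp
  let u : H ⟶ G := lift (𝟙 H) (toUnit H) ≫ ψ.1
  have hcorr : ∀ v : H ⟶ G, (Over.pullback π).map v = u' ↔ fst H X' ≫ v = Φ := by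
    intro v
    constructor
    · intro h
      have h0 := lift_fam u' (fst H X') (snd H X')
      rw [lift_fst_snd, Category.id_comp] at h0
      refine Eq.trans ?_ h0.symm
      rw [← h]
      refine Over.OverMorphism.ext ?_
      rw [fwd_left]
      refine Eq.trans ?_ (Category.assoc _ _ _).symm
      rw [show ((Over.pullback π).map v).left ≫ pullback.fst G.hom π = pullback.fst H.hom π ≫ v.left from
        pullback.lift_fst _ _ _]
      exact (congrArg (· ≫ v.left) (pullback.lift_fst _ _ _).symm).trans (Category.assoc _ _ _)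
    · intro h
      refine Over.OverMorphism.ext (pullback.hom_ext ?_ ((Over.w _).trans (Over.w u').symm))
      refine Eq.trans (pullback.lift_fst _ _ _) ((congrArg CommaMorphism.left h).trans ?_)
      refine (fwd_left _ _).trans ?_
      refine congrArg (· ≫ _) (Eq.trans (congrArg (· ≫ u'.left) ?_) (Category.id_comp _))
      exact pullback.hom_ext ((pullback.lift_fst _ _ _).trans (Category.id_comp _).symm)
        ((pullback.lift_snd _ _ _).trans (Category.id_comp _).symm)
  have hψ' : (H ◁ t) ≫ ψ.1 = Φ := congrArg Subtype.val hψ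
  have hu : fst H X' ≫ u = Φ := by
    rw [← hψ', whiskerLeft_eq_lift, ← Category.assoc, comp_lift, Category.comp_id]
    congr 2
    exact Subsingleton.elim _ _
  have humul : ∀ {W : Over S} (g g' : W ⟶ H), (g * g') ≫ u = (g ≫ u) * (g' ≫ u) := fun g g' => by
    simp only [u, comp_lift_assoc, Category.comp_id, comp_toUnit]
    exact ψ.2 _ _ _ _
  refine ⟨u, ⟨H21Diag.isMonHom_of_mul u humul, (hcorr u).mpr hu⟩, fun v hv => ?_⟩
  haveI := hv.1
  let ψv : (homFam H G).obj (op (𝟙_ (Over S))) := ⟨fst H _ ≫ v, fun W g₁ g₂ t => by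
    simp only [lift_fst_assoc, MonObj.mul_comp]⟩
  have := hψu ψv (Subtype.ext (by
    rw [homFam_map_val, whiskerLeft_fst_assoc]
    exact (hcorr v).mp hv.2))
  have h2 := congrArg (fun z => lift (𝟙 H) (toUnit H) ≫ z.1) this
  simpa [u, ψv] using h2

end Groth.Agent.H21Cent
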